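import Groth.Prelude.Def_GSzH1
import Mathlib.FieldTheory.KrullTopology
import Mathlib.FieldTheory.Finite.GaloisField
import Mathlib.FieldTheory.IsAlgClosed.AlgebraicClosure
import Mathlib.FieldTheory.Galois.Profinite

/-!
Continuous cocycles of the absolute Galois group of a finite field are determined by, and can be
prescribed at, the Frobenius.
-/

set_option autoImplicit false

open Polynomial GpH1
open scoped Topology

namespace Groth.Agent.FrobCocycle

universe u v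

section Galois

variable {k : Type u} [Field k] [Finite k] {L : Type u} [Field L] [Algebra k L]
  (π : L ≃ₐ[k] L) (hπ : ∀ x : L, π x = x ^ Nat.card k)

omit [Finite k] in
theorem pow_fix {g : L ≃ₐ[k] L} {x : L} (h : g x = x) (t : ℕ) : (g ^ t) x = x := by
  induction t with
  | zero => simp
  | succ t ih => rw [pow_succ', AlgEquiv.mul_apply, ih, h]

include hπ in
theorem pow_apply (i : ℕ) (x : L) : (π ^ i) x = x ^ Nat.card k ^ i := by
  induction i with
  | zero => simp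
  | succ i ih => rw [pow_succ', AlgEquiv.mul_apply, ih, hπ, ← pow_mul, pow_succ]

include hπ in
theorem exists_pow_agree (E : IntermediateField k L) [FiniteDimensional k E] (σ : L ≃ₐ[k] L) :
    ∃ i : ℕ, ∀ x ∈ E, σ x = (π ^ i) x := by
  have : Finite E := Module.finite_of_finite k
  haveI := Fintype.ofFinite k
  obtain ⟨i, hi⟩ := (FiniteField.bijective_frobeniusAlgEquivOfAlgebraic_pow k E).2 (σ.restrictNormal E)
  refine ⟨i, fun x hx => ?_⟩
  have h : algebraMap E L ((σ.restrictNormal E) ⟨x, hx⟩) = σ x := σ.restrictNormal_commutes E ⟨x, hx⟩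
  rw [← h, ← hi]
  show algebraMap E L ((FiniteField.frobeniusAlgEquivOfAlgebraic k E ^ (i : ℕ)) ⟨x, hx⟩) = _
  rw [AlgEquiv.coe_pow, FiniteField.coe_frobeniusAlgEquivOfAlgebraic_iterate, pow_apply π hπ,
    Nat.card_eq_fintype_card]
  simp

include hπ in
/-- The powers of the Frobenius are dense. -/
theorem exists_pow_mem (s : Set (L ≃ₐ[k] L)) (σ : L ≃ₐ[k] L) (hs : s ∈ 𝓝 σ) : ∃ i : ℕ, π ^ i ∈ s := by
  have h1 : (fun t => σ * t) ⁻¹' s ∈ 𝓝 (1 : L ≃ₐ[k] L) :=
    (continuous_const_mul σ).continuousAt.preimage_mem_nhds (by simpa using hs)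
  obtain ⟨E, hE, hEs⟩ := (krullTopology_mem_nhds_one_iff k L _).1 h1
  obtain ⟨i, hi⟩ := exists_pow_agree π hπ E σ
  refine ⟨i, ?_⟩
  have h2 := @hEs (σ⁻¹ * π ^ i) (by
    rw [SetLike.mem_coe, IntermediateField.mem_fixingSubgroup_iff]
    intro x hx
    rw [AlgEquiv.mul_apply, ← hi x hx]
    exact σ.symm_apply_apply x)
  simpa using h2

variable [IsAlgClosed L]

include hπ in
/-- For every `N > 0` there is a finite subfield on which the order of the Frobenius is `N`. -/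
theorem exists_field (N : ℕ) (hN : 0 < N) :
    ∃ E : IntermediateField k L, FiniteDimensional k E ∧ (∀ x, x ∈ E ↔ (π ^ N) x = x) ∧
      ∀ i j : ℕ, (∀ x ∈ E, (π ^ i) x = (π ^ j) x) → i % N = j % N := by
  haveI := Fintype.ofFinite k
  obtain ⟨p, hp⟩ := CharP.exists k
  obtain ⟨e, hpr, hcard⟩ := FiniteField.card k p
  haveI : Fact p.Prime := ⟨hpr⟩
  haveI : CharP L p := charP_of_injective_algebraMap (algebraMap k L).injective p
  obtain ⟨q, hq⟩ : ∃ q, Nat.card k = q := ⟨_, rfl⟩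
  have hq1 : 1 < q := hq ▸ Finite.one_lt_card
  have hpq : p ∣ q := by
    rw [← hq, Nat.card_eq_fintype_card, hcard]
    exact dvd_pow_self p e.pos.ne'
  let E := IntermediateField.fixedField (Subgroup.zpowers (π ^ N))
  have hmem : ∀ x, x ∈ E ↔ (π ^ N) x = x := by
    intro x
    constructor
    · exact fun h => h ⟨π ^ N, Subgroup.mem_zpowers _⟩
    · intro h g
      show g.1 • x = x
      exact (Subgroup.zpowers_le (H := MulAction.stabilizer (L ≃ₐ[k] L) x)).2 h g.2
  have hdeg : ∀ i, 0 < i → ((X : L[X]) ^ q ^ i - X).natDegree = q ^ i := fun i hi =>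
    FiniteField.X_pow_card_pow_sub_X_natDegree_eq L hi.ne' hq1
  have hne : ∀ i, 0 < i → (X : L[X]) ^ q ^ i - X ≠ 0 := fun i hi =>
    FiniteField.X_pow_card_pow_sub_X_ne_zero L hi.ne' hq1
  have hroots : ∀ i, 0 < i → ∀ x, x ∈ ((X : L[X]) ^ q ^ i - X).rootSet L ↔ (π ^ i) x = x := fun i hi x => by
    rw [mem_rootSet_of_ne (hne i hi), pow_apply π hπ, hq]
    simp [sub_eq_zero]
  have hset : (E : Set L) = ((X : L[X]) ^ q ^ N - X).rootSet L := by
    ext x; rw [SetLike.mem_coe, hmem, hroots N hN]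
  have : Finite E := by
    have := (rootSet_finite ((X : L[X]) ^ q ^ N - X) L).to_subtype
    exact Finite.of_equiv _ (Equiv.setCongr hset.symm)
  refine ⟨E, Module.Finite.of_finite, hmem, fun i j h => ?_⟩
  have hper : ∀ a, ∀ x ∈ E, (π ^ a) x = (π ^ (a % N)) x := fun a x hx => by
    have h1 : ((π ^ N) ^ (a / N)) x = x := pow_fix ((hmem x).1 hx) _
    conv_lhs => rw [← Nat.mod_add_div a N, pow_add, pow_mul, AlgEquiv.mul_apply, h1]
  have hlt : ∀ r, 0 < r → r < N → ¬ ∀ x ∈ E, (π ^ r) x = x := by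
    intro r h0 hr hall
    have h1 : ((X : L[X]) ^ q ^ N - X).rootSet L ⊆ ((X : L[X]) ^ q ^ r - X).rootSet L := fun x hx =>
      (hroots r h0 x).2 (hall x (by rw [← SetLike.mem_coe, hset]; exact hx))
    have h2 := Set.ncard_le_ncard h1 (rootSet_finite _ _)
    have hsep := galois_poly_separable (K := L) p (q ^ N) (dvd_pow hpq hN.ne')
    have h3 : (((X : L[X]) ^ q ^ N - X).rootSet L).ncard = q ^ N := by
      rw [← Nat.card_coe_set_eq, Nat.card_eq_fintype_card,
        card_rootSet_eq_natDegree hsep (IsAlgClosed.splits _), hdeg N hN]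
    have h4 := ncard_rootSet_le ((X : L[X]) ^ q ^ r - X) L
    rw [hdeg r h0] at h4
    have h5 := Nat.pow_lt_pow_right hq1 hr
    omega
  wlog hij : i % N ≤ j % N generalizing i j
  · exact (this j i (fun x hx => (h x hx).symm) (Nat.le_of_not_le hij)).symm
  obtain ⟨r, hr⟩ := Nat.exists_eq_add_of_le hij
  by_contra hne'
  refine hlt r (by omega) (by have := Nat.mod_lt j hN; omega) fun x hx => ?_
  have h1 := h x hx
  rw [hper i x hx, hper j x hx, hr, pow_add, AlgEquiv.mul_apply] at h1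
  exact ((π ^ (i % N)).injective h1).symm

end Galois

section Cocycle

variable {k : Type u} [Field k] [Finite k] {L : Type u} [Field L] [Algebra k L]
  (π : L ≃ₐ[k] L) (hπ : ∀ x : L, π x = x ^ Nat.card k)
  {A : Type v} [Group A] [MulDistribMulAction (L ≃ₐ[k] L) A]

include hπ in
theorem cocycle_ext {f f' : (L ≃ₐ[k] L) → A} (hf : IsOneCocycle f) (hf' : IsOneCocycle f')
    (hc : IsLocallyConstant f) (hc' : IsLocallyConstant f') (h : f π = f' π) : f = f' := by
  have h1 : ∀ i : ℕ, f (π ^ i) = f' (π ^ i) := by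
    intro i
    induction i with
    | zero =>
      have a1 := hf 1 1
      have a2 := hf' 1 1
      simp only [mul_one, one_smul] at a1 a2
      simp only [pow_zero]
      rw [mul_eq_left.1 a1.symm, mul_eq_left.1 a2.symm]
    | succ i ih => rw [pow_succ, hf, hf', ih, h]
  funext σ
  have hs : {τ | f τ = f σ ∧ f' τ = f' σ} ∈ 𝓝 σ :=
    Filter.inter_mem ((hc.isOpen_fiber _).mem_nhds rfl) ((hc'.isOpen_fiber _).mem_nhds rfl)
  obtain ⟨i, hi1, hi2⟩ := exists_pow_mem π hπ _ σ hs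
  rw [← hi1, ← hi2, h1]

include hπ in
theorem exists_cocycle [IsAlgClosed L] (hcont : ∀ a : A, IsOpen {σ : L ≃ₐ[k] L | σ • a = a})
    (hfin : ∀ a : A, ∃ H : Subgroup A, (H : Set A).Finite ∧ a ∈ H ∧
      ∀ (σ : L ≃ₐ[k] L) (x : A), x ∈ H → σ • x ∈ H) (a : A) :
    ∃ z : OneCocycleLC (L ≃ₐ[k] L) A, z.1 π = a := by
  obtain ⟨H, hH, ha, hstab⟩ := hfin a
  haveI := hH.to_subtype
  -- the pointwise stabilizer of `H`
  have hU : (⋂ x ∈ (H : Set A), {σ : L ≃ₐ[k] L | σ • x = x}) ∈ 𝓝 (1 : L ≃ₐ[k] L) :=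
    (hH.isOpen_biInter fun x _ => hcont x).mem_nhds (by simp)
  obtain ⟨F, hF, hFU⟩ := (krullTopology_mem_nhds_one_iff k L _).1 hU
  obtain ⟨d, hd⟩ : ∃ d, Module.finrank k F = d := ⟨_, rfl⟩
  have hd0 : 0 < d := hd ▸ Module.finrank_pos
  have hπd : ∀ x ∈ F, (π ^ d) x = x := by
    intro x hx
    haveI : Finite F := Module.finite_of_finite k
    haveI := Fintype.ofFinite F
    have h : (⟨x, hx⟩ : F) ^ Nat.card F = ⟨x, hx⟩ := by
      rw [Nat.card_eq_fintype_card]; exact FiniteField.pow_card _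
    rw [Module.natCard_eq_pow_finrank (K := k), hd] at h
    rw [pow_apply π hπ]
    exact congrArg Subtype.val h
  have hfixH : ∀ σ : L ≃ₐ[k] L, (∀ x ∈ F, σ x = x) → ∀ b ∈ H, σ • b = b := fun σ hσ b hb =>
    Set.mem_iInter₂.1 (hFU ((IntermediateField.mem_fixingSubgroup_iff _ _).2 hσ)) b hb
  -- partial products
  obtain ⟨S, hS0, hS1⟩ : ∃ S : ℕ → A, S 0 = 1 ∧ ∀ i, S (i + 1) = S i * π ^ i • a :=
    ⟨fun i => Nat.rec 1 (fun i s => s * π ^ i • a) i, rfl, fun _ => rfl⟩
  have hSH : ∀ i, S i ∈ H := by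
    intro i
    induction i with
    | zero => rw [hS0]; exact H.one_mem
    | succ i ih => rw [hS1]; exact H.mul_mem ih (hstab _ _ ha)
  have hSadd : ∀ i j, S (i + j) = S i * π ^ i • S j := by
    intro i j
    induction j with
    | zero => simp [hS0]
    | succ j ih =>
      rw [← Nat.add_assoc, hS1, ih, hS1, smul_mul', pow_add, mul_smul, mul_assoc]
  have hdfix : ∀ t : ℕ, ∀ b ∈ H, π ^ (d * t) • b = b := by
    intro t b hb
    rw [pow_mul]
    refine hfixH _ (fun x hx => ?_) b hb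
    exact pow_fix (hπd x hx) _
  have hSmul : ∀ t, S (d * t) = S d ^ t := by
    intro t
    induction t with
    | zero => simp [hS0]
    | succ t ih => rw [Nat.mul_succ, hSadd, ih, hdfix t _ (hSH d), pow_succ]
  obtain ⟨m, hm, hSm⟩ : ∃ m, 0 < m ∧ S d ^ m = 1 := by
    refine ⟨orderOf (⟨S d, hSH d⟩ : H), orderOf_pos _, ?_⟩
    exact congrArg Subtype.val (pow_orderOf_eq_one (⟨S d, hSH d⟩ : H))
  obtain ⟨E, hE, hEmem, hEmod⟩ := exists_field π hπ (d * m) (Nat.mul_pos hd0 hm)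
  have hFE : ∀ x ∈ F, x ∈ E := fun x hx => (hEmem x).2 (by
    rw [pow_mul]
    exact pow_fix (hπd x hx) _)
  have hper : ∀ i, S i = S (i % (d * m)) := by
    intro i
    have h1 : S (d * m * (i / (d * m))) = 1 := by rw [mul_assoc, hSmul, pow_mul, hSm, one_pow]
    conv_lhs => rw [← Nat.mod_add_div i (d * m), hSadd, h1, smul_one, mul_one]
  have hex := fun σ => exists_pow_agree π hπ E σ
  choose ind hind using hex
  have hval : ∀ σ i, (∀ x ∈ E, σ x = (π ^ i) x) → S (ind σ) = S i := fun σ i h => by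
    rw [hper (ind σ), hper i, hEmod (ind σ) i fun x hx => (hind σ x hx).symm.trans (h x hx)]
  have hact : ∀ σ : L ≃ₐ[k] L, ∀ b ∈ H, σ • b = π ^ ind σ • b := fun σ b hb => by
    have h := hfixH ((π ^ ind σ)⁻¹ * σ) (fun x hx => by
      rw [AlgEquiv.mul_apply, hind σ x (hFE x hx)]
      exact (π ^ ind σ).symm_apply_apply x) b hb
    rwa [mul_smul, inv_smul_eq_iff] at h
  refine ⟨⟨⟨fun σ => S (ind σ), fun σ τ => ?_⟩, ?_⟩, ?_⟩
  · show S (ind (σ * τ)) = S (ind σ) * σ • S (ind τ)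
    rw [hact σ _ (hSH _), ← hSadd]
    refine hval _ _ fun x hx => ?_
    rw [AlgEquiv.mul_apply, hind τ x hx, pow_add, AlgEquiv.mul_apply]
    refine hind σ _ ((hEmem _).2 ?_)
    rw [← AlgEquiv.mul_apply, ← pow_add, Nat.add_comm, pow_add, AlgEquiv.mul_apply, (hEmem x).1 hx]
  · haveI := hE
    rw [IsLocallyConstant.iff_exists_open]
    intro σ
    refine ⟨(fun t => σ⁻¹ * t) ⁻¹' (E.fixingSubgroup : Set (L ≃ₐ[k] L)),
      E.fixingSubgroup_isOpen.preimage (continuous_const_mul _), by simp, fun τ hτ => ?_⟩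
    refine hval τ (ind σ) fun x hx => ?_
    have h := (IntermediateField.mem_fixingSubgroup_iff _ _).1 hτ x hx
    rw [AlgEquiv.mul_apply] at h
    have h2 := congrArg σ h
    rw [hind σ x hx, ← AlgEquiv.mul_apply, mul_inv_cancel] at h2
    simpa using h2
  · show S (ind π) = a
    rw [hval π 1 (fun x _ => by rw [pow_one]), hS1, hS0, pow_zero, one_smul, one_mul]

include hπ in
theorem main [IsAlgClosed L] (hcont : ∀ a : A, IsOpen {σ : L ≃ₐ[k] L | σ • a = a})
    (hfin : ∀ a : A, ∃ H : Subgroup A, (H : Set A).Finite ∧ a ∈ H ∧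
      ∀ (σ : L ≃ₐ[k] L) (x : A), x ∈ H → σ • x ∈ H) :
    Function.Bijective (fun z : OneCocycleLC (L ≃ₐ[k] L) A => z.1 π) ∧
      ∀ z z' : OneCocycleLC (L ≃ₐ[k] L) A,
        z.cl = z'.cl ↔ ∃ g : A, z'.1 π = g * z.1 π * (π • g)⁻¹ := by
  refine ⟨⟨fun z z' h => Subtype.ext (Subtype.ext (cocycle_ext π hπ z.1.2 z'.1.2 z.2 z'.2 h)),
    fun a => exists_cocycle π hπ hcont hfin a⟩, fun z z' => ?_⟩
  rw [OneCocycleLC.cl_eq_cl_iff]
  constructor
  · rintro ⟨c, hc⟩
    exact ⟨c, by rw [hc π]; group⟩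
  · rintro ⟨g, hg⟩
    refine ⟨g, fun σ => ?_⟩
    have hcoc : IsOneCocycle fun σ => g⁻¹ * z'.1 σ * σ • g := fun σ τ => by
      show g⁻¹ * z'.1 (σ * τ) * (σ * τ) • g = g⁻¹ * z'.1 σ * σ • g * σ • (g⁻¹ * z'.1 τ * τ • g)
      rw [z'.1.2 σ τ, smul_mul', smul_mul', smul_inv', mul_smul]
      group
    have hlc : IsLocallyConstant fun σ : L ≃ₐ[k] L => g⁻¹ * z'.1 σ * σ • g := by
      have h1 : IsLocallyConstant fun σ : L ≃ₐ[k] L => σ • g := by
        rw [IsLocallyConstant.iff_exists_open]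
        intro τ
        refine ⟨(fun t => τ⁻¹ * t) ⁻¹' {σ | σ • g = g}, (hcont g).preimage (continuous_const_mul _),
          by simp, fun t ht => ?_⟩
        have ht' : (τ⁻¹ * t) • g = g := ht
        rwa [mul_smul, inv_smul_eq_iff] at ht'
      exact (z'.2.comp (g⁻¹ * ·)).comp₂ h1 (· * ·)
    exact congrFun (cocycle_ext π hπ z.1.2 hcoc z.2 hlc (by rw [hg]; group)) σ

end Cocycle

end Groth.Agent.FrobCocycle
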